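/-
The adjoint group, its Bruhat cells with coordinates, and descent of the coordinates to subfields.
-/
import Cfsg.Agent.Lib.Chev.SteinbergChar
import Cfsg.Agent.Lib.Chev.WeylN
import Cfsg.Agent.Lib.Chev.TorusCard
import Cfsg.Agent.Lib.KnownB.ChevField

set_option autoImplicit false

namespace CfsgLib.Chev.Lang

open Cfsg.Lie Matrix CfsgLib.Chev CfsgLib.KnownB.ChevField

variable {D : ChevalleyDatum} {A : Aux} {F L : Type*} [Field F] [Field L]

/-! ### the adjoint torus -/

/-- values on the simple roots, extended by `1` -/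
def ext (a : Fin D.rank → Fˣ) (k : ℕ) : Fˣ := if h : k < D.rank then a ⟨k, h⟩ else 1

theorem ext_mul (a b : Fin D.rank → Fˣ) (k : ℕ) : ext (a * b) k = ext a k * ext b k := by
  unfold ext; split_ifs <;> simp

theorem wt_ext_mul (a b : Fin D.rank → Fˣ) (r : ℕ) :
    wt D A (ext (a * b)) r = wt D A (ext a) r * wt D A (ext b) r := by
  simp [wt, ext_mul, mul_zpow, Finset.prod_mul_distrib]

theorem wt_ext_one (r : ℕ) : wt D A (ext (1 : Fin D.rank → Fˣ)) r = 1 := by
  refine Finset.prod_eq_one fun k _ => ?_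
  unfold ext
  split_ifs <;> simp

/-- the adjoint torus -/
noncomputable def dgn (D : ChevalleyDatum) (A : Aux) : (Fin D.rank → Fˣ) →* GL D.Idx F :=
  MonoidHom.toHomUnits
    { toFun := fun a => dia D (fun s => (wt D A (ext a) s : F))
      map_one' := by
        rw [← dia_one]
        exact dia_congr fun s _ => by rw [wt_ext_one, Units.val_one]
      map_mul' := fun a b => by
        rw [dia_mul]
        exact dia_congr fun s _ => by rw [wt_ext_mul, Units.val_mul] }

theorem dgn_val (a : Fin D.rank → Fˣ) :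
    ((dgn D A a : GL D.Idx F) : Matrix D.Idx D.Idx F) = dia D (fun s => (wt D A (ext a) s : F)) :=
  rfl

theorem dgn_simple (g : Good D A) (a : Fin D.rank → Fˣ) (i : Fin D.rank) :
    ((dgn D A a : GL D.Idx F) : Matrix D.Idx D.Idx F) (Sum.inr ⟨D.simple i, g.simple_lt i i.isLt⟩)
      (Sum.inr ⟨D.simple i, g.simple_lt i i.isLt⟩) = a i := by
  rw [dgn_val, dia, Matrix.diagonal_apply_eq, Sum.elim_inr, wt_simple g _ i.isLt, ext,
    dif_pos i.isLt]

theorem dgn_conj_xG (g : Good D A) (a : Fin D.rank → Fˣ) {r : ℕ} (hr : r < D.nroots) (t : F) :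
    dgn D A a * xG g r t * (dgn D A a)⁻¹ = xG g r ((wt D A (ext a) r : F) * t) := by
  rw [mul_inv_eq_iff_eq_mul]
  apply Units.ext
  simp only [Units.val_mul, dgn_val, xG_val]
  exact dia_mul_x g _ hr t

theorem dgn_conj_group (g : Good D A) (a : Fin D.rank → Fˣ) {y : GL D.Idx F} (hy : y ∈ D.group F) :
    dgn D A a * y * (dgn D A a)⁻¹ ∈ D.group F := by
  rw [group_eq g] at hy
  induction hy using Subgroup.closure_induction with
  | mem y hy =>
    obtain ⟨r, t, hr, rfl⟩ := hy
    rw [dgn_conj_xG g a hr]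
    exact xG_mem_group g r _
  | one => simp [one_mem]
  | mul x y _ _ hx hy =>
    rw [show dgn D A a * (x * y) * (dgn D A a)⁻¹ =
      (dgn D A a * x * (dgn D A a)⁻¹) * (dgn D A a * y * (dgn D A a)⁻¹) by group]
    exact mul_mem hx hy
  | inv x _ hx =>
    rw [show dgn D A a * x⁻¹ * (dgn D A a)⁻¹ = (dgn D A a * x * (dgn D A a)⁻¹)⁻¹ by group]
    exact inv_mem hx

theorem dgn_conj_UP (g : Good D A) (a : Fin D.rank → Fˣ) {P : ℕ → Prop} (hP : ∀ r, P r → r < D.nroots)
    {y : GL D.Idx F} (hy : y ∈ UP F g P) : dgn D A a * y * (dgn D A a)⁻¹ ∈ UP F g P := by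
  have h : UP F g P ≤ (UP F g P).comap (MulAut.conj (dgn D A a : GL D.Idx F)).toMonoidHom :=
    UP_le fun r t hr => by
      show dgn D A a * xG g r t * (dgn D A a)⁻¹ ∈ UP F g P
      rw [dgn_conj_xG g a (hP r hr)]
      exact xG_mem_UP g hr _
  exact h hy

theorem tor_eq_dgn (g : Good D A) (c : Fin D.rank → Fˣ) :
    (tor D A c : GL D.Idx F) = dgn D A (fun i => chi D A c (D.simple i)) := by
  apply Units.ext
  rw [tor_val, dgn_val]
  refine dia_congr fun s hs => congrArg Units.val ?_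
  rw [chi_eq_wt g c hs]
  refine Finset.prod_congr rfl fun k hk => ?_
  rw [ext, dif_pos (Finset.mem_range.1 hk)]

theorem map_dgn (j : F →+* L) (a : Fin D.rank → Fˣ) :
    Matrix.GeneralLinearGroup.map j (dgn D A a) =
      dgn D A fun i => Units.map (j : F →* L) (a i) := by
  apply Units.ext
  show ((dgn D A a : GL D.Idx F) : Matrix D.Idx D.Idx F).map j = _
  rw [dgn_val, dgn_val, dia, dia, Matrix.diagonal_map j.map_zero]
  congr 1
  funext x
  rcases x with i | s
  · exact j.map_one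
  · simp only [Function.comp_apply, Sum.elim_inr, wt]
    push_cast
    rw [map_prod]
    refine Finset.prod_congr rfl fun k hk => ?_
    rw [map_zpow₀, ext, ext, dif_pos (Finset.mem_range.1 hk), dif_pos (Finset.mem_range.1 hk)]
    rfl

/-- the adjoint group -/
def Gad (g : Good D A) : Subgroup (GL D.Idx F) where
  carrier := {y | ∃ x ∈ D.group F, ∃ a, y = x * dgn D A a}
  one_mem' := ⟨1, one_mem _, 1, by simp⟩
  mul_mem' := by
    rintro _ _ ⟨x, hx, a, rfl⟩ ⟨y, hy, b, rfl⟩
    refine ⟨x * (dgn D A a * y * (dgn D A a)⁻¹), mul_mem hx (dgn_conj_group g a hy), a * b, ?_⟩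
    rw [map_mul]; group
  inv_mem' := by
    rintro _ ⟨x, hx, a, rfl⟩
    refine ⟨dgn D A a⁻¹ * x⁻¹ * (dgn D A a⁻¹)⁻¹, dgn_conj_group g _ (inv_mem hx), a⁻¹, ?_⟩
    rw [map_inv]; group

theorem group_le_Gad (g : Good D A) : D.group F ≤ Gad g := fun x hx => ⟨x, hx, 1, by simp⟩

theorem dgn_mem_Gad (g : Good D A) (a : Fin D.rank → Fˣ) : dgn D A a ∈ Gad g :=
  ⟨1, one_mem _, a, by simp⟩

theorem map_Gad (g : Good D A) (j : F →+* L) {y : GL D.Idx F} (hy : y ∈ Gad g) :
    Matrix.GeneralLinearGroup.map j y ∈ Gad g := by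
  obtain ⟨x, hx, a, rfl⟩ := hy
  rw [map_mul, map_dgn]
  exact mul_mem (group_le_Gad g (group_map_le g j ⟨x, hx, rfl⟩)) (dgn_mem_Gad g _)

/-- over an algebraically closed field the adjoint torus is the torus -/
theorem dgn_eq_tor [IsAlgClosed F] (g : Good D A) (hdet : (cartanM D A).det ≠ 0)
    (a : Fin D.rank → Fˣ) : ∃ c, dgn D A a = tor D A c := by
  classical
  set d := (cartanM D A).det with hd
  have hroot : ∀ i, ∃ b : Fˣ, b ^ d = a i := by
    intro i
    have hn : 0 < d.natAbs := Int.natAbs_pos.2 hdet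
    rcases Int.natAbs_eq d with e | e
    · obtain ⟨x, hx⟩ := IsAlgClosed.exists_pow_nat_eq (a i : F) hn
      have hx0 : x ≠ 0 := fun h => (a i).ne_zero (by rw [← hx, h, zero_pow hn.ne'])
      exact ⟨Units.mk0 x hx0, Units.ext (by rw [e, zpow_natCast]; simpa using hx)⟩
    · obtain ⟨x, hx⟩ := IsAlgClosed.exists_pow_nat_eq (((a i)⁻¹ : Fˣ) : F) hn
      have hx0 : x ≠ 0 := fun h => ((a i)⁻¹).ne_zero (by rw [← hx, h, zero_pow hn.ne'])
      refine ⟨Units.mk0 x hx0, ?_⟩
      rw [e, _root_.zpow_neg, zpow_natCast, inv_eq_iff_eq_inv]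
      exact Units.ext (by simpa using hx)
  choose b hb using hroot
  have hc : mHom F (cartanM D A) (mHom F (cartanM D A).adjugate b) = a := by
    rw [mHom_mul, Matrix.adjugate_mul]
    funext k
    rw [mHom_apply, Finset.prod_eq_single k]
    · simp [← hd, hb]
    · intro i _ hik; simp [Matrix.one_apply_ne hik]
    · simp
  have h : dgn D A a = tor D A (mHom F (cartanM D A).adjugate b) := by
    rw [tor_eq_dgn g]
    congr 1
    funext k
    exact (congrFun hc k).symm
  exact ⟨_, h⟩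

/-- over an algebraically closed field the adjoint torus lies in the group -/
theorem dgn_mem_group [IsAlgClosed F] (g : Good D A) (hdet : (cartanM D A).det ≠ 0)
    (a : Fin D.rank → Fˣ) : dgn D A a ∈ D.group F := by
  obtain ⟨c, hc⟩ := dgn_eq_tor g hdet a
  exact diagonalSubgroup_le_group g (by rw [diagonalSubgroup_eq g, hc]; exact ⟨c, rfl⟩)

theorem det_ne_of_smith {U Ui V Vi : Matrix (Fin D.rank) (Fin D.rank) ℤ} {d : Fin D.rank → ℕ}
    (hc : smithCheck D A U Ui V Vi d = true) (hd : ∀ i, d i ≠ 0) : (cartanM D A).det ≠ 0 := by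
  simp only [smithCheck, List.all_eq_true, List.mem_finRange, forall_const, Bool.and_eq_true,
    decide_eq_true_eq] at hc
  have h1 : U * cartanM D A * V = Matrix.diagonal fun i => (d i : ℤ) := Matrix.ext fun i k => by
    rw [(hc i k).1.1, Matrix.diagonal_apply]
  intro h0
  have h2 := congrArg Matrix.det h1
  rw [Matrix.det_mul, Matrix.det_mul, h0, mul_zero, zero_mul, Matrix.det_diagonal] at h2
  exact (Finset.prod_ne_zero_iff.2 fun i _ => by exact_mod_cast hd i) h2.symm

/-! ### coordinates of `U` -/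

/-- the coordinates of an element of `UP P` vanish outside `P` -/
theorem pw_support (h : Std D A) {σ : ℕ → ℕ} {n : GL D.Idx F} (hn : Acts h.good n σ) :
    ∀ {L : List ℕ}, UpList D L → ∀ {T : ℕ → F}, pw h.good L T ∈ UP F h.good (toNeg D σ) →
      ∀ r ∈ L, ¬ toNeg D σ r → T r = 0
  | [], _, _, _, r, hr, _ => by simp at hr
  | x :: L, hL, T, hT, r, hr, hnr => by
    have g := h.good
    have hx := hL.pos x (by simp)
    have e0 : pw g (x :: L) T = xG g x (T x) * pw g L T := by simp [pw]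
    rw [e0] at hT
    have hx0 : ¬ toNeg D σ x → T x = 0 := by
      intro hxn
      have hpp : D.IsPosRoot (σ x) := by
        by_contra hh
        exact hxn ⟨hx, isNeg_of_not_pos g (hn.map.1 x hx.1) hh⟩
      obtain ⟨a, ha, b, hb, e⟩ := split L hL.tail (pw_mem_UL (F := F) g L T)
      rw [e, ← mul_assoc] at hT
      have h1 : xG g x (T x) * a ∈ UP F g (toNeg D σ) := by
        simpa using mul_mem hT (inv_mem hb)
      have h2 : xG g x (T x) * a ∈ UP F g (fun r => D.IsPosRoot r ∧ D.IsPosRoot (σ r)) :=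
        mul_mem (xG_mem_UP g (P := fun r => D.IsPosRoot r ∧ D.IsPosRoot (σ r)) ⟨hx, hpp⟩ _)
          (UP_le (fun r t hr => xG_mem_UP g hr.2 t) ha)
      have hB : n * (xG g x (T x) * a) * n⁻¹ ∈ D.borelSubgroup F :=
        conj_UP_le hn (fun r hr => hr.1.1) (fun r t hr => xG_mem_borel g hr.2 t) h2
      have hV : n * (xG g x (T x) * a) * n⁻¹ ∈ D.negUnipotent F :=
        conj_UP_le hn (fun r hr => hr.1.1) (fun r t hr => xG_mem_negUnipotent g hr.2 t) h1
      have h3 := Subgroup.mem_bot.1 ((borel_inf_negUnipotent h).le (Subgroup.mem_inf.2 ⟨hB, hV⟩))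
      rw [conj_eq_one_iff] at h3
      have ha' : a ∈ UL F g L := UP_le (fun r t hr => xG_mem_UL g hr.1 t) ha
      have hcx : 0 ≤ 1 * code D A x := by
        rw [one_mul]; exact (code_pos h hx.1 ((g.pos_iff x hx.1).1 hx)).le
      refine eq_zero_of_mem_triG g hx.1 _ hcx ?_
      rw [show xG g x (T x) = a⁻¹ from eq_inv_of_mul_eq_one_left h3]
      refine UL_le_triG h hcx (fun r hr => (hL.tail.pos r hr).1) (fun r hr => ?_) (inv_mem ha')
      rw [one_mul]
      exact code_mono h ((List.pairwise_cons.1 hL.sorted).1 r hr) (hL.tail.pos r hr).1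
    rcases List.mem_cons.1 hr with rfl | hr
    · exact hx0 hnr
    · refine pw_support h hn hL.tail ?_ r hr hnr
      by_cases hxn : toNeg D σ x
      · simpa using mul_mem (inv_mem (xG_mem_UP g (P := toNeg D σ) hxn (T x))) hT
      · rwa [hx0 hxn, xG_zero, one_mul] at hT
where
  split : ∀ L : List ℕ, UpList D L → ∀ {y : GL D.Idx F}, y ∈ UL F h.good L →
      ∃ a ∈ UP F h.good (fun r => r ∈ L ∧ (D.IsPosRoot r ∧ D.IsPosRoot (σ r))),
        ∃ b ∈ UP F h.good (toNeg D σ), y = a * b
  | [], _, y, hy => ⟨1, one_mem _, 1, one_mem _, by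
      rw [UL_nil, Subgroup.mem_bot] at hy; simp [hy]⟩
  | x :: L, hL, y, hy => by
    have g := h.good
    obtain ⟨T, rfl⟩ := exists_pw h hL hy
    have hx := hL.pos x (by simp)
    obtain ⟨a, ha, b, hb, e⟩ := split L hL.tail (pw_mem_UL (F := F) g L T)
    have hy' : pw g (x :: L) T = xG g x (T x) * (a * b) := by rw [← e]; simp [pw]
    have hmono : ∀ {z : GL D.Idx F}, z ∈ UP F g (fun r => r ∈ L ∧ (D.IsPosRoot r ∧ D.IsPosRoot (σ r))) →
        z ∈ UP F g (fun r => r ∈ x :: L ∧ (D.IsPosRoot r ∧ D.IsPosRoot (σ r))) := fun hz =>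
      UP_le (fun r t hr => xG_mem_UP g
        (P := fun r => r ∈ x :: L ∧ (D.IsPosRoot r ∧ D.IsPosRoot (σ r)))
        ⟨List.mem_cons_of_mem _ hr.1, hr.2⟩ t) hz
    by_cases hpos : D.IsPosRoot (σ x)
    · exact ⟨_, mul_mem (xG_mem_UP g
        (P := fun r => r ∈ x :: L ∧ (D.IsPosRoot r ∧ D.IsPosRoot (σ r))) ⟨List.mem_cons_self, hx, hpos⟩ (T x))
        (hmono ha), b, hb, by rw [hy', mul_assoc]⟩
    · have hxn : toNeg D σ x := ⟨hx, isNeg_of_not_pos g (hn.map.1 x hx.1) hpos⟩
      have hv : xG g x (T x) * (a * b) * (xG g x (T x))⁻¹ ∈ UL F g L := by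
        rw [← e]; exact UL_conj h hL.tail hx _ (pw_mem_UL g L T)
      obtain ⟨a', ha', b', hb', e'⟩ := split L hL.tail hv
      refine ⟨a', hmono ha', b' * xG g x (T x), mul_mem hb' (xG_mem_UP g hxn _), ?_⟩
      rw [← mul_assoc, ← e', hy']; group

/-- coordinates descend to a subfield containing the entries -/
theorem pw_coords (h : Std D A) (j : F →+* L) : ∀ {M : List ℕ}, UpList D M → ∀ {T : ℕ → L},
    pw h.good M T ∈ (Matrix.GeneralLinearGroup.map (n := D.Idx) j).range →
      ∀ r ∈ M, T r ∈ j.range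
  | [], _, _, _, r, hr => by simp at hr
  | x :: M, hM, T, hT, r, hr => by
    have g := h.good
    have hx := hM.pos x (by simp)
    have e0 : pw g (x :: M) T = xG g x (T x) * pw g M T := by simp [pw]
    rw [e0] at hT
    have hcpos : 0 < code D A x := code_pos h hx.1 ((g.pos_iff x hx.1).1 hx)
    have hrest : pw g M T ∈ triG (fun z => 1 * wgt D A z) (code D A x) hcpos.le :=
      UL_le_triG h hcpos.le (fun r hr => (hM.tail.pos r hr).1)
        (fun r hr => code_mono h ((List.pairwise_cons.1 hM.sorted).1 r hr) (hM.tail.pos r hr).1)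
        (pw_mem_UL g M T)
    obtain ⟨i, hi⟩ := xG_inj_root.exists_coro_ne_zero (F := L) g hx.1
    have hentry : ((xG g x (T x) * pw g M T : GL D.Idx L) : Matrix D.Idx D.Idx L) (Sum.inl i)
        (Sum.inr ⟨A.neg x, g.neg_lt x hx.1⟩) = T x * (A.coro x i : L) := by
      rw [Units.val_mul, Matrix.mul_apply, Finset.sum_eq_single (Sum.inr ⟨A.neg x, g.neg_lt x hx.1⟩)]
      · rw [hrest.1 _ _ (by simp [hcpos.le]), if_pos rfl, mul_one, xG_val, x_entry g hx.1]
      · intro z _ hz
        by_cases hw : wgt D A z ≤ wgt D A (Sum.inr ⟨A.neg x, g.neg_lt x hx.1⟩) + code D A x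
        · rw [hrest.1 z _ (by simpa using hw), if_neg hz, mul_zero]
        · have hw' : 0 < wgt D A z := by
            simp [wgt, code_neg g hx.1] at hw
            simpa [wgt] using hw
          have hX := (xG_mem_triG (F := L) g hx.1 (T x) (b := 0) (σ := 1) (Or.inl rfl) le_rfl
            (by simpa using hcpos)).1 (Sum.inl i) z (by simpa [wgt] using hw'.le)
          rw [hX, if_neg (fun e => by rw [← e] at hw'; simp [wgt] at hw'), zero_mul]
      · simp
    obtain ⟨y, hy⟩ := hT
    have hT0 : T x ∈ j.range := by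
      have h1 : T x * (A.coro x i : L) ∈ j.range := by
        rw [← hentry, ← hy]; exact ⟨_, rfl⟩
      obtain ⟨v, hv⟩ := h1
      exact ⟨v / (A.coro x i : F), by rw [map_div₀, hv, map_intCast, mul_div_cancel_right₀ _ hi]⟩
    rcases List.mem_cons.1 hr with rfl | hr
    · exact hT0
    · refine pw_coords h j hM.tail ?_ r hr
      obtain ⟨v, hv⟩ := hT0
      refine ⟨(xG g x v)⁻¹ * y, ?_⟩
      rw [map_mul, map_inv, hy, map_xG, hv, inv_mul_cancel_left]

/-! ### cells -/

theorem monomial_word (g : Good D A) {y : GL D.Idx F} (hy : y ∈ D.monomialSubgroup F) :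
    ∃ w, Letters D w ∧ ∃ d, y = nW F g w * tor D A d := by
  obtain ⟨w, hw, c, rfl⟩ := monomial_exists_word g hy
  obtain ⟨d, hd⟩ := monomial_conj_tor g (inv_mem (nW_mem (F := F) g hw)) c
  exact ⟨w, hw, d, by rw [← hd]; group⟩

theorem map_nW (g : Good D A) (j : F →+* L) (w : List ℕ) :
    Matrix.GeneralLinearGroup.map j (nW F g w) = nW L g w := by
  simp [nW, map_list_prod, Function.comp_def, map_nS]

theorem Gad_cell (h : Std D A) {y : GL D.Idx F} (hy : y ∈ Gad h.good) :
    ∃ w, Letters D w ∧ ∃ S a T, (∀ r ∈ D.posRoots, ¬ toNeg D (wf A w) r → T r = 0) ∧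
      y = pw h.good D.posRoots S * nW F h.good w * dgn D A a * pw h.good D.posRoots T := by
  have g := h.good
  obtain ⟨x, hx, a₀, rfl⟩ := hy
  obtain ⟨b, hb, n, hn, σ, hσ, u, hu, rfl⟩ := normal_form_exists h hx
  obtain ⟨v, hv, c, rfl⟩ := (mem_borel_iff g).1 hb
  obtain ⟨w, hw, d, e⟩ := monomial_word g (mul_mem (tor_mem_monomial g c) hn)
  have hnw : Acts g (nW F g w) (wf A w) := nW_acts g hw
  have hσw : ∀ r < D.nroots, σ r = wf A w r := fun r hr => by
    have h1 := (acts_tor g c).mul hσ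
    rw [e] at h1
    exact h1.unique (hnw.mul (acts_tor g d)) hr
  have hu' : u ∈ UP F g (toNeg D (wf A w)) := by
    rwa [UP_congr g (P := toNeg D σ) (Q := toNeg D (wf A w)) fun r =>
      ⟨fun hr => ⟨hr.1, hσw r hr.1.1 ▸ hr.2⟩, fun hr => ⟨hr.1, (hσw r hr.1.1).symm ▸ hr.2⟩⟩] at hu
  rw [← UL_posRoots g] at hv
  obtain ⟨S, rfl⟩ := exists_pw h upList_posRoots hv
  have hu2 := dgn_conj_UP g a₀⁻¹ (fun r hr => hr.1.1) hu'
  have hu3 : dgn D A a₀⁻¹ * u * (dgn D A a₀⁻¹)⁻¹ ∈ UL F g D.posRoots := by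
    rw [UL_posRoots g]; exact UP_toNeg_le g _ hu2
  obtain ⟨T, hT⟩ := exists_pw h upList_posRoots hu3
  refine ⟨w, hw, S, (fun i : Fin D.rank => chi D A d (D.simple i)) * a₀, T,
    fun r hr hnr => pw_support h hnw upList_posRoots (hT ▸ hu2) r hr hnr, ?_⟩
  rw [map_mul, ← tor_eq_dgn g, ← hT, map_inv, inv_inv]
  calc pw g D.posRoots S * tor D A c * n * u * dgn D A a₀
      = pw g D.posRoots S * (tor D A c * n) * u * dgn D A a₀ := by group
    _ = _ := by rw [e]; group

theorem exists_w0 (h : Std D A) (F : Type*) [Field F] :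
    ∃ w, Letters D w ∧ ∀ r, D.IsPosRoot r → D.IsNegRoot (wf A w r) := by
  have g := h.good
  obtain ⟨n, hn, σ, hσ, hw⟩ := exists_longest (F := F) g
  obtain ⟨w, hwl, d, rfl⟩ := monomial_word g hn
  refine ⟨w, hwl, fun r hr => ?_⟩
  have h1 : σ r = wf A w r := hσ.unique ((nW_acts g hwl).mul (acts_tor g d)) hr.1
  rw [← h1]
  exact hw r hr

/-- an element whose `σ` inverts every positive root is in the longest cell -/
theorem cell_longest (h : Std D A) {w0 w : List ℕ} (h0 : Letters D w0) (hw : Letters D w)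
    (hl0 : ∀ r, D.IsPosRoot r → D.IsNegRoot (wf A w0 r))
    (hl : ∀ r, D.IsPosRoot r → D.IsNegRoot (wf A w r)) :
    ∃ e, nW F h.good w = nW F h.good w0 * tor D A e := by
  have g := h.good
  have := longest_unique h (nW_mem (F := F) g h0) (nW_mem g hw) (nW_acts g h0) hl0 (nW_acts g hw)
    (fun i hi => not_pos_of_isNeg g (hl _ (simple_pos g hi)))
  rw [diagonalSubgroup_eq g] at this
  obtain ⟨e, he⟩ := this
  exact ⟨e, by rw [he]; group⟩

/-- the inverse of a longest element still inverts all positive roots -/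
theorem longest_inv (h : Std D A) {w0 : List ℕ} (h0 : Letters D w0)
    (hl0 : ∀ r, D.IsPosRoot r → D.IsNegRoot (wf A w0 r)) :
    ∃ τ, Acts h.good (nW F h.good w0)⁻¹ τ ∧ ∀ r, D.IsPosRoot r → D.IsNegRoot (τ r) := by
  have g := h.good
  have hn := nW_acts (F := F) g h0
  obtain ⟨τ, hτ, hτσ⟩ := acts_inv g (nW_mem g h0) hn
  refine ⟨τ, hτ, fun r hr => ?_⟩
  by_contra hcon
  have hp : D.IsPosRoot (τ r) := by
    by_contra hh; exact hcon (isNeg_of_not_pos g (hτ.map.1 r hr.1) hh)
  have h1 := hl0 _ hp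
  rw [(hτσ r hr.1).2] at h1
  exact not_pos_of_isNeg g h1 hr

/-! ### a derivation killing the entries kills the coordinates -/

theorem der_mul {R : Type*} [CommRing R] [Algebra R F] (Dv : Derivation R F F)
    (X Y : Matrix D.Idx D.Idx F) : (X * Y).map Dv = X.map Dv * Y + X * Y.map Dv := by
  ext i k
  simp only [Matrix.map_apply, Matrix.mul_apply, Matrix.add_apply, map_sum, Derivation.leibniz,
    smul_eq_mul, ← Finset.sum_add_distrib]
  exact Finset.sum_congr rfl fun l _ => by ring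

theorem ldu_kill {R : Type*} [CommRing R] [Algebra R F] (h : Std D A) (Dv : Derivation R F F)
    {V U : GL D.Idx F} (hV : V ∈ D.negUnipotent F) (hU : U ∈ D.posUnipotent F) (a : Fin D.rank → Fˣ)
    (hk : ((V * dgn D A a * U : GL D.Idx F) : Matrix D.Idx D.Idx F).map Dv = 0) :
    (∀ i, Dv (a i : F) = 0) ∧ (U : Matrix D.Idx D.Idx F).map Dv = 0 := by
  have g := h.good
  obtain ⟨hV1, hV2⟩ := negUnipotent_le_triG h hV
  obtain ⟨hU1, hU2⟩ := posUnipotent_le_triG h hU
  set w : D.Idx → ℤ := wgt D A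
  set Tm := ((dgn D A a : GL D.Idx F) : Matrix D.Idx D.Idx F) with hTm
  set Vm := (V : Matrix D.Idx D.Idx F)
  set Um := (U : Matrix D.Idx D.Idx F)
  set Vi := ((V⁻¹ : GL D.Idx F) : Matrix D.Idx D.Idx F)
  set Ui := ((U⁻¹ : GL D.Idx F) : Matrix D.Idx D.Idx F)
  have hVV : Vi * Vm = 1 := by rw [← Units.val_mul, inv_mul_cancel]; rfl
  have hUU : Um * Ui = 1 := by rw [← Units.val_mul, mul_inv_cancel]; rfl
  have hUU' : Ui * Um = 1 := by rw [← Units.val_mul, inv_mul_cancel]; rfl
  rw [Units.val_mul, Units.val_mul, der_mul, der_mul] at hk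
  set X := Vi * Vm.map Dv
  set Y := Um.map Dv * Ui
  have key : X * Tm + Tm.map Dv + Tm * Y = 0 := by
    have h2 := congrArg (fun Z => Vi * Z * Ui) hk
    simp only [Matrix.mul_zero, Matrix.zero_mul] at h2
    rw [← h2]
    calc X * Tm + Tm.map Dv + Tm * Y
        = Vi * Vm.map Dv * Tm * (Um * Ui) + (Vi * Vm) * Tm.map Dv * (Um * Ui) +
            (Vi * Vm) * Tm * (Um.map Dv * Ui) := by
          rw [hVV, hUU, Matrix.one_mul, Matrix.one_mul, Matrix.mul_one, Matrix.mul_one]
      _ = _ := by simp only [Matrix.mul_add, Matrix.add_mul, Matrix.mul_assoc]; rfl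
  have hdV : ∀ x z, w z ≤ w x → Vm.map Dv x z = 0 := fun x z hxz => by
    rw [Matrix.map_apply, hV1 x z (by simpa using hxz)]
    split_ifs <;> simp
  have hdU : ∀ x z, w x ≤ w z → Um.map Dv x z = 0 := fun x z hxz => by
    rw [Matrix.map_apply, hU1 x z (by simpa using hxz)]
    split_ifs <;> simp
  have hX : ∀ x z, w z ≤ w x → X x z = 0 := fun x z hxz => by
    show (Vi * Vm.map Dv) x z = 0
    rw [Matrix.mul_apply]
    refine Finset.sum_eq_zero fun k _ => ?_
    by_cases hk' : w z ≤ w k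
    · rw [hdV k z hk', mul_zero]
    · rw [hV2 x k (by simp; omega), if_neg (fun e => by subst e; omega), zero_mul]
  have hY : ∀ x z, w x ≤ w z → Y x z = 0 := fun x z hxz => by
    show (Um.map Dv * Ui) x z = 0
    rw [Matrix.mul_apply]
    refine Finset.sum_eq_zero fun k _ => ?_
    by_cases hk' : w x ≤ w k
    · rw [hdU x k hk', zero_mul]
    · rw [hU2 k z (by simp; omega), if_neg (fun e => by subst e; omega), mul_zero]
  have hT : Tm = Matrix.diagonal (fun x => Tm x x) := by
    rw [hTm, dgn_val, dia]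
    ext x z
    by_cases e : x = z
    · subst e; simp
    · simp [Matrix.diagonal_apply_ne _ e]
  have hT0 : ∀ x, Tm x x ≠ 0 := by
    intro x
    rw [hTm, dgn_val, dia, Matrix.diagonal_apply_eq]
    rcases x with i | s <;> simp
  have hcomp : ∀ x z, X x z * Tm z z + Tm.map Dv x z + Tm x x * Y x z = 0 := fun x z => by
    have := congrFun (congrFun key x) z
    rw [Matrix.add_apply, Matrix.add_apply, Matrix.zero_apply] at this
    conv_lhs at this => rw [hT]
    simp only [Matrix.mul_diagonal, Matrix.diagonal_mul] at this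
    rw [← hT] at this
    exact this
  have hdiag : ∀ x, Dv (Tm x x) = 0 := fun x => by
    have := hcomp x x
    rwa [hX x x le_rfl, hY x x le_rfl, zero_mul, mul_zero, zero_add, add_zero, Matrix.map_apply] at this
  have hY0 : Y = 0 := by
    ext x z
    by_cases hxz : w x ≤ w z
    · rw [hY x z hxz]; rfl
    · have := hcomp x z
      rw [hX x z (by omega), zero_mul, zero_add, Matrix.map_apply, hT, Matrix.diagonal_apply_ne _
        (fun e => by subst e; exact hxz le_rfl), map_zero, zero_add, Matrix.diagonal_apply_eq] at this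
      exact (mul_eq_zero.1 this).resolve_left (hT0 x)
  refine ⟨fun i => ?_, ?_⟩
  · have := hdiag (Sum.inr ⟨D.simple i, g.simple_lt i i.isLt⟩)
    rwa [hTm, dgn_simple g] at this
  · calc Um.map Dv = Y * Um := by rw [Matrix.mul_assoc, hUU', Matrix.mul_one]
      _ = 0 := by rw [hY0, Matrix.zero_mul]

end CfsgLib.Chev.Lang
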