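/-
A differential criterion for transcendence bases, and the comparison of two such bases.
-/
import Mathlib

set_option autoImplicit false

namespace CfsgLib.Chev.Lang

open Cardinal

universe u
variable {F M K : Type u} [Field F] [Field M] [Field K] [Algebra F M] [Algebra F K]

/-- no derivation over the subfield kills everything: the extension is algebraic -/
theorem algebraic_of_derivation [Algebra.EssFiniteType F M] {J : Type} (c : J → M)
    (hc : ∀ D : Derivation F M M, (∀ i, D (c i) = 0) → D = 0) :
    Algebra.IsAlgebraic (Algebra.adjoin F (Set.range c)) M := by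
  rw [← IntermediateField.isAlgebraic_adjoin_iff_top]
  set E := IntermediateField.adjoin F (Set.range c)
  haveI : Algebra.EssFiniteType E M := Algebra.EssFiniteType.of_comp F E M
  haveI hs : Subsingleton (Derivation E M M) := by
    refine subsingleton_of_forall_eq 0 fun D => ?_
    have h0 : D.restrictScalars F = 0 := hc _ fun i => by
      show D (c i) = 0
      exact D.map_algebraMap ⟨c i, IntermediateField.subset_adjoin F _ ⟨i, rfl⟩⟩
    ext x
    exact DFunLike.congr_fun h0 x
  haveI : Subsingleton (Ω[M⁄E] →ₗ[M] M) :=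
    (KaehlerDifferential.linearMapEquivDerivation E M).toEquiv.subsingleton
  haveI : Subsingleton (Ω[M⁄E]) := by
    refine subsingleton_of_forall_eq 0 fun x => ?_
    exact (Module.forall_dual_apply_eq_zero_iff M x).1 fun φ => by
      rw [Subsingleton.elim φ 0, LinearMap.zero_apply]
  haveI : Algebra.FormallyUnramified E M := ⟨inferInstance⟩
  haveI := (Algebra.FormallyUnramified.iff_isSeparable E M).1 inferInstance
  exact inferInstance

theorem card_le_of_derivation [Algebra.EssFiniteType F M] {I J : Type} [Finite I] [Finite J]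
    (y : I → M) (hy : AlgebraicIndependent F y) (c : J → M)
    (hc : ∀ D : Derivation F M M, (∀ i, D (c i) = 0) → D = 0) : Nat.card I ≤ Nat.card J := by
  haveI := algebraic_of_derivation c hc
  have h1 : lift.{u} #I ≤ lift.{0} (Algebra.trdeg F M) := hy.lift_cardinalMk_le_trdeg
  have h2 : Algebra.trdeg F M ≤ #(Set.range c) := Algebra.IsAlgebraic.trdeg_le_cardinalMk F _
  have h3 : lift.{0} #(Set.range c) ≤ lift.{u} #J := mk_range_le_lift
  rw [lift_uzero] at h1 h3
  have h4 : lift.{u} #I ≤ lift.{u} #J := h1.trans (h2.trans h3)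
  rw [lift_le] at h4
  exact (Nat.card_le_card_of_injective _ (Classical.choice ((Cardinal.le_def I J).1 h4)).injective)

theorem basis_of_derivation [Algebra.EssFiniteType F M] {J : Type} [Finite J]
    (y : J → M) (hy : AlgebraicIndependent F y) (c : J → M)
    (hc : ∀ D : Derivation F M M, (∀ i, D (c i) = 0) → D = 0) : IsTranscendenceBasis F c := by
  haveI := algebraic_of_derivation c hc
  exact Algebra.IsAlgebraic.isTranscendenceBasis_of_lift_le_trdeg_of_finite F c
    hy.lift_cardinalMk_le_trdeg

/-- a map sending one transcendence basis to the other -/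
theorem exists_map [IsAlgClosed K] {J : Type} (ι : M →ₐ[F] K) {c₁ c₂ : J → M}
    (h1 : IsTranscendenceBasis F c₁) (h2 : IsTranscendenceBasis F c₂) :
    ∃ ψ : M →ₐ[F] K, ∀ i, ψ (c₂ i) = ι (c₁ i) := by
  have hk : AlgebraicIndependent F (fun i => ι (c₁ i)) := h1.1.map' ι.injective
  let e₁ := hk.aevalEquiv
  let e₂ := h2.1.aevalEquiv
  let ρ : Algebra.adjoin F (Set.range c₂) →ₐ[F] K :=
    (Algebra.adjoin F (Set.range fun i => ι (c₁ i))).val.comp
      (e₁.toAlgHom.comp e₂.symm.toAlgHom)
  have hρ : Function.Injective ρ := Subtype.val_injective.comp (e₁.injective.comp e₂.symm.injective)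
  letI : Algebra (Algebra.adjoin F (Set.range c₂)) K := ρ.toRingHom.toAlgebra
  haveI : IsScalarTower F (Algebra.adjoin F (Set.range c₂)) K :=
    IsScalarTower.of_algebraMap_eq fun x => (ρ.commutes x).symm
  haveI : FaithfulSMul (Algebra.adjoin F (Set.range c₂)) K :=
    (faithfulSMul_iff_algebraMap_injective _ _).2 hρ
  haveI := h2.isAlgebraic
  let ψ : M →ₐ[Algebra.adjoin F (Set.range c₂)] K := IsAlgClosed.lift
  refine ⟨ψ.restrictScalars F, fun i => ?_⟩
  have h := ψ.commutes ⟨c₂ i, Algebra.subset_adjoin ⟨i, rfl⟩⟩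
  refine h.trans ?_
  show ρ _ = _
  have hX : e₂ (MvPolynomial.X i) = ⟨c₂ i, Algebra.subset_adjoin ⟨i, rfl⟩⟩ := Subtype.ext (by simp [e₂])
  rw [← hX]
  simp [ρ, e₁]

end CfsgLib.Chev.Lang
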