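/-
Lang's theorem for the Chevalley groups: every rational element is of the shape `g⁻¹σ(g)`
over an algebraically closed field.
-/
import Cfsg.Agent.Lib.Chev.Lang.Cell
import Cfsg.Agent.Lib.Chev.Lang.FieldAlg

set_option autoImplicit false

namespace CfsgLib.Chev.Lang

open Cfsg.Lie Matrix CfsgLib.Chev CfsgLib.KnownB.ChevField

universe u

/-- the kernel of a derivation -/
def kerField {F M : Type u} [Field F] [Field M] [Algebra F M] (Dv : Derivation F M M) : Subfield M where
  carrier := {x | Dv x = 0}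
  mul_mem' := fun {a b} (ha : Dv a = 0) (hb : Dv b = 0) => by
    show Dv (a * b) = 0
    rw [Dv.leibniz, ha, hb, smul_zero, smul_zero, add_zero]
  one_mem' := Dv.map_one_eq_zero
  add_mem' := fun {a b} (ha : Dv a = 0) (hb : Dv b = 0) => by
    show Dv (a + b) = 0
    rw [map_add, ha, hb, add_zero]
  zero_mem' := map_zero Dv
  neg_mem' := fun {a} (ha : Dv a = 0) => by
    show Dv (-a) = 0
    rw [map_neg, ha, neg_zero]
  inv_mem' := fun a (ha : Dv a = 0) => by
    show Dv a⁻¹ = 0
    rw [Dv.leibniz_inv, ha, smul_zero]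

section
variable {D : ChevalleyDatum} {A : Aux} {F M : Type u} [Field F] [Field M] [Algebra F M]

/-- matrices over the kernel of a derivation -/
noncomputable abbrev GLker (Dv : Derivation F M M) : Subgroup (GL D.Idx M) :=
  (Matrix.GeneralLinearGroup.map (n := D.Idx) (kerField Dv).subtype).range

theorem killed_of_mem (Dv : Derivation F M M) {y : GL D.Idx M} (hy : y ∈ GLker Dv) :
    (y : Matrix D.Idx D.Idx M).map Dv = 0 := by
  obtain ⟨z, rfl⟩ := hy
  ext i k
  exact ((z : Matrix D.Idx D.Idx (kerField Dv)) i k).2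

theorem mem_of_killed (Dv : Derivation F M M) {y : GL D.Idx M}
    (hy : (y : Matrix D.Idx D.Idx M).map Dv = 0) : y ∈ GLker Dv := by
  let Z : Matrix D.Idx D.Idx (kerField Dv) := fun i k =>
    ⟨(y : Matrix D.Idx D.Idx M) i k, congrFun (congrFun hy i) k⟩
  have hZ : Z.map (kerField Dv).subtype = (y : Matrix D.Idx D.Idx M) := rfl
  have hdet : Z.det ≠ 0 := by
    intro h0
    have h1 := congrArg (kerField Dv).subtype h0
    rw [RingHom.map_det, map_zero] at h1
    exact ((Matrix.isUnit_iff_isUnit_det _).1 y.isUnit).ne_zero (hZ ▸ h1)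
  exact ⟨Matrix.GeneralLinearGroup.mkOfDetNeZero Z hdet, Units.ext rfl⟩

theorem pw_mem (g : Good D A) (Dv : Derivation F M M) {L : List ℕ} {T : ℕ → M}
    (hT : ∀ r ∈ L, Dv (T r) = 0) : pw g L T ∈ GLker Dv := by
  refine list_prod_mem fun y hy => ?_
  obtain ⟨r, hr, rfl⟩ := List.mem_map.1 hy
  exact ⟨xG g r ⟨T r, hT r hr⟩, map_xG g _ r _⟩

theorem dgn_mem (Dv : Derivation F M M) {a : Fin D.rank → Mˣ} (ha : ∀ i, Dv (a i : M) = 0) :
    dgn D A a ∈ GLker Dv := by
  refine ⟨dgn D A fun i => Units.mk0 (⟨(a i : M), ha i⟩ : kerField Dv)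
    (fun h => (a i).ne_zero (congrArg Subtype.val h)), ?_⟩
  rw [map_dgn]
  congr 1
  funext i
  exact Units.ext rfl

theorem nW_mem_ker (g : Good D A) (Dv : Derivation F M M) (w : List ℕ) : nW M g w ∈ GLker Dv :=
  ⟨nW (kerField Dv) g w, map_nW g _ w⟩

theorem map_mem_ker (Dv : Derivation F M M) (x : GL D.Idx F) :
    Matrix.GeneralLinearGroup.map (algebraMap F M) x ∈ GLker Dv :=
  ⟨Matrix.GeneralLinearGroup.map ((algebraMap F M).codRestrict (kerField Dv)
    fun t => Dv.map_algebraMap t) x, Units.ext rfl⟩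

end

section
variable (D : ChevalleyDatum) (A : Aux)

/-- the positive roots as a type -/
abbrev PR : Type := {r : ℕ // r ∈ D.posRoots}

/-- the index type of the cell coordinates -/
abbrev Par : Type := (PR D ⊕ Fin D.rank) ⊕ PR D

instance : Finite (PR D) :=
  Finite.of_injective (fun r : PR D => (⟨r.1, (posRoots_mem.1 r.2).1⟩ : Fin D.nroots))
    fun a b e => Subtype.ext (congrArg Fin.val e)

variable {D}

/-- extend by zero -/
noncomputable def pext {M : Type*} [Zero M] (S : PR D → M) (r : ℕ) : M :=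
  if h : r ∈ D.posRoots then S ⟨r, h⟩ else 0

/-- the cell -/
noncomputable def cell {M : Type*} [Field M] (g : Good D A) (w : List ℕ) (S : PR D → M)
    (a : Fin D.rank → Mˣ) (T : PR D → M) : GL D.Idx M :=
  pw g D.posRoots (pext S) * nW M g w * dgn D A a * pw g D.posRoots (pext T)

theorem map_cell {M L : Type*} [Field M] [Field L] (g : Good D A) (j : M →+* L) (w : List ℕ)
    (S : PR D → M) (a : Fin D.rank → Mˣ) (T : PR D → M) :
    Matrix.GeneralLinearGroup.map j (cell A g w S a T) =
      cell A g w (fun r => j (S r)) (fun i => Units.map (j : M →* L) (a i)) fun r => j (T r) := by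
  have h : ∀ S : PR D → M, (fun r => j (pext S r)) = pext fun r => j (S r) := fun S => by
    funext r; unfold pext; split_ifs <;> simp
  simp only [cell, map_mul, map_pw, map_nW, map_dgn, h]

theorem cell_mem_Gad {M : Type*} [Field M] (h : Std D A) {w : List ℕ} (hw : Letters D w)
    (S : PR D → M) (a : Fin D.rank → Mˣ) (T : PR D → M) : cell A h.good w S a T ∈ Gad h.good := by
  have g := h.good
  have hp : ∀ U : ℕ → M, pw g D.posRoots U ∈ Gad g := fun U => group_le_Gad g
    (posUnipotent_le_group g (UL_posRoots (F := M) g ▸ pw_mem_UL g _ U))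
  exact mul_mem (mul_mem (mul_mem (hp _)
    (group_le_Gad g (monomialSubgroup_le_group g (nW_mem g hw)))) (dgn_mem_Gad g a)) (hp _)

end

variable {D : ChevalleyDatum} {A : Aux}

/-- coordinates of the twisted generic point: they form a transcendence basis -/
theorem twisted_coords (h : Std D A) {F : Type u} [Field F] [Fintype F] {M : Type u} [Field M]
    [Algebra F M] [Algebra.EssFiniteType F M] {w0 : List ℕ} (h0 : Letters D w0)
    (hl0 : ∀ r, D.IsPosRoot r → D.IsNegRoot (wf A w0 r))
    (y : Par D → M) (hy : AlgebraicIndependent F y)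
    (hgen : ∀ Dv : Derivation F M M, (∀ i, Dv (y i) = 0) → Dv = 0) (hne : ∀ i, y (Sum.inl (Sum.inr i)) ≠ 0)
    (σ : M →+* M) (hσ : ∀ x, σ x = x ^ Fintype.card F) (x : GL D.Idx F) (hx : x ∈ D.group F) :
    let g0 := cell A h.good w0 (fun r => y (Sum.inl (Sum.inl r)))
      (fun i => Units.mk0 _ (hne i)) (fun r => y (Sum.inr r))
    ∃ S a T, IsTranscendenceBasis F (Sum.elim (Sum.elim S fun i => (a i : M)) T) ∧
      g0⁻¹ * Matrix.GeneralLinearGroup.map (algebraMap F M) x *
        Matrix.GeneralLinearGroup.map σ g0 = cell A h.good w0 S a T := by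
  intro g0
  classical
  have g := h.good
  set xM := Matrix.GeneralLinearGroup.map (algebraMap F M) x
  set f := g0⁻¹ * xM * Matrix.GeneralLinearGroup.map σ g0 with hf
  have hg0 : g0 ∈ Gad g := cell_mem_Gad A h h0 _ _ _
  have hfm : f ∈ Gad g := mul_mem (mul_mem (inv_mem hg0)
    (group_le_Gad g (group_map_le g _ ⟨x, hx, rfl⟩))) (map_Gad g σ hg0)
  have hq : ∀ (Dv : Derivation F M M) (z : M), Dv (σ z) = 0 := fun Dv z => by
    rw [hσ, Dv.leibniz_pow]
    have : (Fintype.card F : M) = 0 := by
      rw [← map_natCast (algebraMap F M), FiniteField.cast_card_eq_zero, map_zero]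
    simp [← Nat.cast_smul_eq_nsmul M, this]
  -- a derivation with `f` over its kernel vanishes
  have key : ∀ Dv : Derivation F M M, f ∈ GLker Dv → Dv = 0 := by
    intro Dv hfk
    have hσg : Matrix.GeneralLinearGroup.map σ g0 ∈ GLker Dv :=
      ⟨Matrix.GeneralLinearGroup.map (σ.codRestrict (kerField Dv) (hq Dv)) g0, Units.ext rfl⟩
    have hgk : g0 ∈ GLker Dv := by
      rw [show g0 = (f * (xM * Matrix.GeneralLinearGroup.map σ g0)⁻¹)⁻¹ by rw [hf]; group]
      exact inv_mem (mul_mem hfk (inv_mem (mul_mem (map_mem_ker Dv x) hσg)))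
    set n := nW M g w0
    have hn := nW_mem_ker g Dv w0
    set U1 := pw g D.posRoots (pext fun r => y (Sum.inl (Sum.inl r))) with hU1
    set U2 := pw g D.posRoots (pext fun r => y (Sum.inr r)) with hU2
    obtain ⟨τ, hτ, hτn⟩ := longest_inv h h0 hl0 (F := M)
    have hV : n⁻¹ * U1 * n ∈ D.negUnipotent M := by
      rw [← longest_conj g hτ hτn]
      refine ⟨U1, by rw [hU1, ← UL_posRoots g]; exact pw_mem_UL g _ _, ?_⟩
      show n⁻¹ * U1 * n⁻¹⁻¹ = _
      rw [inv_inv]
    have hU2m : U2 ∈ D.posUnipotent M := by rw [hU2, ← UL_posRoots g]; exact pw_mem_UL g _ _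
    have hfact : n⁻¹ * U1 * n * dgn D A (fun i => Units.mk0 _ (hne i)) * U2 = n⁻¹ * g0 := by
      simp only [g0, cell, n, U1, U2]; group
    obtain ⟨ha, hUk⟩ := ldu_kill h Dv hV hU2m _
      (by rw [hfact]; exact killed_of_mem Dv (mul_mem (inv_mem hn) hgk))
    have hU2k := mem_of_killed Dv hUk
    have hU1k : U1 ∈ GLker Dv := by
      rw [show U1 = g0 * (n * dgn D A (fun i => Units.mk0 _ (hne i)) * U2)⁻¹ by
        simp only [g0, cell, n, U1, U2]; group]
      exact mul_mem hgk (inv_mem (mul_mem (mul_mem hn (dgn_mem Dv ha)) hU2k))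
    have hc : ∀ (S : PR D → M), pw g D.posRoots (pext S) ∈ GLker Dv → ∀ r, Dv (S r) = 0 := by
      intro S hS r
      obtain ⟨v, hv⟩ := pw_coords h (kerField Dv).subtype upList_posRoots hS r.1 r.2
      have hv' : pext S r.1 = S r := by simp [pext, r.2]
      rw [← hv', ← hv]
      exact v.2
    refine hgen Dv ?_
    rintro ((r | i) | r)
    · exact hc (fun r => y (Sum.inl (Sum.inl r))) hU1k r
    · exact ha i
    · exact hc (fun r => y (Sum.inr r)) hU2k r
  obtain ⟨w, hw, S, a, T, hT, hfe⟩ := Gad_cell h hfm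
  -- the cell is the longest one
  have hlong : ∀ r, D.IsPosRoot r → D.IsNegRoot (wf A w r) := by
    intro r₀ hr₀
    by_contra hcon
    let Q := {r : PR D // toNeg D (wf A w) r.1}
    let c : (PR D ⊕ Fin D.rank) ⊕ Q → M :=
      Sum.elim (Sum.elim (fun r => S r.1) fun i => (a i : M)) fun r => T r.1.1
    have hcard := card_le_of_derivation y hy c fun Dv hD => key Dv (by
      rw [hfe]
      refine mul_mem (mul_mem (mul_mem (pw_mem g Dv fun r hr => hD (Sum.inl (Sum.inl ⟨r, hr⟩)))
        (nW_mem_ker g Dv w)) (dgn_mem Dv fun i => hD (Sum.inl (Sum.inr i)))) (pw_mem g Dv fun r hr => ?_)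
      by_cases hrn : toNeg D (wf A w) r
      · exact hD (Sum.inr ⟨⟨r, hr⟩, hrn⟩)
      · rw [hT r hr hrn, map_zero])
    have hlt : Nat.card Q < Nat.card (PR D) := by
      refine lt_of_le_of_ne (Nat.card_le_card_of_injective _ Subtype.val_injective) fun e => ?_
      have hsurj := (Nat.bijective_iff_injective_and_card (Subtype.val : Q → PR D)).2
        ⟨Subtype.val_injective, e⟩
      obtain ⟨z, hz⟩ := hsurj.2 ⟨r₀, posRoots_mem.2 hr₀⟩
      have h2 : toNeg D (wf A w) r₀ := by
        have := z.2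
        rwa [hz] at this
      exact hcon h2.2
    simp only [Nat.card_sum] at hcard
    omega
  obtain ⟨e, he⟩ := cell_longest (F := M) h h0 hw hl0 hlong
  rw [he] at hfe
  refine ⟨fun r => S r.1, (fun i : Fin D.rank => chi D A e (D.simple i)) * a, fun r => T r.1,
    ?_, ?_⟩
  · refine basis_of_derivation y hy _ fun Dv hD => key Dv ?_
    rw [hfe, show pw g D.posRoots S * (nW M g w0 * tor D A e) * dgn D A a * pw g D.posRoots T =
      pw g D.posRoots S * nW M g w0 *
        dgn D A ((fun i : Fin D.rank => chi D A e (D.simple i)) * a) * pw g D.posRoots T by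
      rw [map_mul (dgn D A), ← tor_eq_dgn g]; group]
    exact mul_mem (mul_mem (mul_mem (pw_mem g Dv fun r hr => hD (Sum.inl (Sum.inl ⟨r, hr⟩)))
      (nW_mem_ker g Dv w0)) (dgn_mem Dv fun i => hD (Sum.inl (Sum.inr i))))
      (pw_mem g Dv fun r hr => hD (Sum.inr ⟨r, hr⟩))
  · have hS : ∀ U : ℕ → M, pw g D.posRoots U = pw g D.posRoots (pext fun r : PR D => U r.1) := by
      intro U
      simp only [pw]
      exact congrArg List.prod (List.map_congr_left fun r hr => by simp [pext, hr])
    rw [hfe, cell, ← hS, ← hS, map_mul (dgn D A), ← tor_eq_dgn g]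
    group

/-- Lang's theorem -/
theorem lang (h : Std D A) (hdet : (cartanM D A).det ≠ 0) {F : Type u} [Field F] [Fintype F]
    {x : GL D.Idx F} (hx : x ∈ D.group F) :
    ∃ (K : Type u) (_ : Field K) (_ : IsAlgClosed K) (ι : F →+* K) (σ : K →+* K),
      (∀ z, σ z = z ^ Fintype.card F) ∧ ∃ G ∈ D.group K,
        Matrix.GeneralLinearGroup.map σ G = G * Matrix.GeneralLinearGroup.map ι x := by
  classical
  have g := h.good
  let P := MvPolynomial (Par D) F
  let M := FractionRing P
  haveI : Algebra.EssFiniteType P M := Algebra.EssFiniteType.of_isLocalization M (nonZeroDivisors P)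
  haveI : Algebra.EssFiniteType F M := Algebra.EssFiniteType.comp F P M
  let y : Par D → M := fun i => algebraMap P M (MvPolynomial.X i)
  have hy : AlgebraicIndependent F y :=
    (MvPolynomial.algebraicIndependent_X (Par D) F).map' (f := IsScalarTower.toAlgHom F P M)
      (IsFractionRing.injective P M)
  have hgen : ∀ Dv : Derivation F M M, (∀ i, Dv (y i) = 0) → Dv = 0 := by
    intro Dv hD
    have h1 : ∀ p : P, Dv (algebraMap P M p) = 0 := by
      intro p
      induction p using MvPolynomial.induction_on with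
      | C c => rw [← MvPolynomial.algebraMap_eq, ← IsScalarTower.algebraMap_apply, Dv.map_algebraMap]
      | add p q hp hq => rw [map_add, map_add, hp, hq, add_zero]
      | mul_X p i hp =>
        rw [map_mul, Dv.leibniz, hp, show Dv (algebraMap P M (MvPolynomial.X i)) = 0 from hD i,
          smul_zero, smul_zero, add_zero]
    ext z
    obtain ⟨a, b, -, rfl⟩ := IsFractionRing.div_surjective (A := P) z
    rw [Dv.leibniz_div, h1, h1, smul_zero, smul_zero, sub_zero, smul_zero]
    rfl
  have hne : ∀ i, y (Sum.inl (Sum.inr i)) ≠ 0 := fun i => by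
    simpa [y] using (IsFractionRing.injective P M).ne (MvPolynomial.X_ne_zero _)
  let σM : M →+* M := (FiniteField.frobeniusAlgHom F M).toRingHom
  obtain ⟨w0, h0, hl0⟩ := exists_w0 h F
  obtain ⟨S₁, a₁, T₁, hb₁, he₁⟩ := twisted_coords h h0 hl0 y hy hgen hne σM (fun _ => rfl) 1 (one_mem _)
  obtain ⟨S₂, a₂, T₂, hb₂, he₂⟩ := twisted_coords h h0 hl0 y hy hgen hne σM (fun _ => rfl) x hx
  let K := AlgebraicClosure M
  let ι : M →ₐ[F] K := IsScalarTower.toAlgHom F M K
  obtain ⟨ψ, hψ⟩ := exists_map ι hb₁ hb₂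
  let σ : K →+* K := (FiniteField.frobeniusAlgHom F K).toRingHom
  refine ⟨K, inferInstance, inferInstance, algebraMap F K, σ, fun _ => rfl, ?_⟩
  set g0 := cell A g w0 (fun r => y (Sum.inl (Sum.inl r))) (fun i => Units.mk0 _ (hne i))
    (fun r => y (Sum.inr r)) with hg0
  have hcomm : ∀ (φ : M →ₐ[F] K) (z : GL D.Idx M),
      Matrix.GeneralLinearGroup.map φ.toRingHom (Matrix.GeneralLinearGroup.map σM z) =
        Matrix.GeneralLinearGroup.map σ (Matrix.GeneralLinearGroup.map φ.toRingHom z) := by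
    intro φ z
    refine Units.ext (Matrix.ext fun i k => ?_)
    show φ ((z.val i k) ^ Fintype.card F) = (φ (z.val i k)) ^ Fintype.card F
    rw [map_pow]
  have hrat : ∀ (φ : M →ₐ[F] K), Matrix.GeneralLinearGroup.map φ.toRingHom
      (Matrix.GeneralLinearGroup.map (algebraMap F M) x) =
        Matrix.GeneralLinearGroup.map (algebraMap F K) x := by
    intro φ
    refine Units.ext (Matrix.ext fun i k => ?_)
    exact φ.commutes _
  have hcell : Matrix.GeneralLinearGroup.map ι.toRingHom (cell A g w0 S₁ a₁ T₁) =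
      Matrix.GeneralLinearGroup.map ψ.toRingHom (cell A g w0 S₂ a₂ T₂) := by
    rw [map_cell, map_cell]
    congr 1
    · funext r; exact (hψ (Sum.inl (Sum.inl r))).symm
    · funext i; exact Units.ext (hψ (Sum.inl (Sum.inr i))).symm
    · funext r; exact (hψ (Sum.inr r)).symm
  rw [← he₁, ← he₂] at hcell
  simp only [map_mul, map_inv, map_one, mul_one, hcomm, hrat] at hcell
  set u := Matrix.GeneralLinearGroup.map ι.toRingHom g0
  set v := Matrix.GeneralLinearGroup.map ψ.toRingHom g0
  refine ⟨u * v⁻¹, ?_, ?_⟩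
  · have hk : ∀ z ∈ Gad (F := K) g, z ∈ D.group K := by
      rintro _ ⟨x, hx, a, rfl⟩
      exact mul_mem hx (dgn_mem_group g hdet a)
    exact hk _ (mul_mem (map_Gad g _ (cell_mem_Gad A h h0 _ _ _))
      (inv_mem (map_Gad g _ (cell_mem_Gad A h h0 _ _ _))))
  · rw [map_mul, map_inv, show Matrix.GeneralLinearGroup.map σ u =
      u * (v⁻¹ * Matrix.GeneralLinearGroup.map (algebraMap F K) x *
        Matrix.GeneralLinearGroup.map σ v) by rw [← hcell, mul_inv_cancel_left]]
    group

end CfsgLib.Chev.Lang
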